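import Mathlib
import Cfsg.Agent.Lib.Helper71.JC.JCFour
import Cfsg.Agent.Lib.Helper33.KS12.SubnOdd

/-!
# The abstract lemma AL (helper31, KS12 / S2953)

A pure group-theoretic lemma: a four-group `W` normal in a 2-group `S`, all of whose involution
centralizers normalize `W`, cannot coexist with a "`J`-component configuration" `(T, K, W')`
inside a proper subgroup `T < S` satisfying the uniqueness principle `hKP`.
-/

set_option autoImplicit false

namespace Cfsg.Agent.Lib.Helper31.KS12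

open Cfsg.Agent.Lib.Helper71.JC (four_enum invol_struct two_invol inv_eq_self_of_sq
  conj_mem_of_mem_normalizer conj_inv_mem_of_mem_normalizer)
open Cfsg.Agent.Lib.Helper33.KS12 (IsFour exists_pow_two_eq_one)
open scoped commutatorElement

universe u
variable {G : Type u} [Group G]

theorem al_comm {W : Subgroup G} (hW2 : ∀ w ∈ W, w * w = 1) :
    ∀ a ∈ W, ∀ b ∈ W, a * b = b * a := by
  intro a ha b hb
  have h1 := hW2 (a * b) (W.mul_mem ha hb)
  have e : a * b = (a * b)⁻¹ := (inv_eq_of_mul_eq_one_left h1).symm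
  rw [e, mul_inv_rev, inv_eq_self_of_sq (hW2 a ha), inv_eq_self_of_sq (hW2 b hb)]

theorem al_le_normalizer {H Y : Subgroup G}
    (h : ∀ t ∈ H, ∀ y ∈ Y, t * y * t⁻¹ ∈ Y) : H ≤ Subgroup.normalizer (Y : Set G) := by
  intro t ht
  rw [Subgroup.mem_normalizer_iff]
  intro y
  constructor
  · exact h t ht y
  · intro hy
    have h1 := h t⁻¹ (H.inv_mem ht) _ hy
    have e : t⁻¹ * (t * y * t⁻¹) * t⁻¹⁻¹ = y := by group
    rwa [e] at h1

/-- Conjugation-invariance of a closure from its generators. -/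
theorem al_conj_closure {Sg : Set G} {s : G}
    (h : ∀ sg ∈ Sg, s * sg * s⁻¹ ∈ Subgroup.closure Sg) :
    ∀ n ∈ Subgroup.closure Sg, s * n * s⁻¹ ∈ Subgroup.closure Sg := by
  have h1 : Subgroup.closure Sg ≤ (Subgroup.closure Sg).comap (MulAut.conj s).toMonoidHom := by
    rw [Subgroup.closure_le]
    intro sg hsg
    have := h sg hsg
    simpa using this
  intro n hn
  have := h1 hn
  simpa using this

/-- Conjugation-invariance of a join from its two parts. -/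
theorem al_conj_sup {A B : Subgroup G} {s : G}
    (hA : ∀ a ∈ A, s * a * s⁻¹ ∈ A ⊔ B) (hB : ∀ b ∈ B, s * b * s⁻¹ ∈ A ⊔ B) :
    ∀ n ∈ A ⊔ B, s * n * s⁻¹ ∈ A ⊔ B := by
  have h1 : A ⊔ B ≤ (A ⊔ B).comap (MulAut.conj s).toMonoidHom := by
    refine sup_le ?_ ?_
    · intro a ha
      have := hA a ha
      simpa using this
    · intro b hb
      have := hB b hb
      simpa using this
  intro n hn
  have := h1 hn
  simpa using this

/-- The `T`-side configuration. -/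
structure ALCfg (S T K W' : Subgroup G) : Prop where
  hT2 : IsPGroup 2 T
  hTS : T ≤ S
  hTK : T ≤ Subgroup.normalizer (K : Set G)
  hW'T : W' ≤ T
  hW'4 : Nat.card W' = 4
  hW'2 : ∀ a ∈ W', a * a = 1
  hKW' : K ≤ Subgroup.normalizer (W' : Set G)
  hTW' : T ≤ Subgroup.normalizer (W' : Set G)
  hR : K ⊓ Subgroup.centralizer (W' : Set G) ≤ T
  hKT : K ≤ ⁅K, T⁆
  hKP : ∀ X : Subgroup G, X ≠ ⊥ → X ≤ T → (∀ k ∈ K, ∀ n ∈ X, k * n * k⁻¹ ∈ X) →
      (∀ t ∈ T, ∀ n ∈ X, t * n * t⁻¹ ∈ X) → ∀ s ∈ S, (∀ n ∈ X, s * n * s⁻¹ ∈ X) →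
      (∀ n ∈ X, s⁻¹ * n * s ∈ X) → s ∈ T

/-- `Q = C_T(W')`. -/
def qOf (T W' : Subgroup G) : Subgroup G := T ⊓ Subgroup.centralizer (W' : Set G)

theorem mem_qOf {T W' : Subgroup G} {q : G} :
    q ∈ qOf T W' ↔ q ∈ T ∧ ∀ a ∈ W', a * q = q * a := by
  unfold qOf
  rw [Subgroup.mem_inf, Subgroup.mem_centralizer_iff]
  rfl

namespace ALCfg

variable {S T K W' : Subgroup G}

theorem four (C : ALCfg S T K W') : IsFour W' :=
  ⟨C.hW'4, C.hW'2, al_comm C.hW'2⟩

theorem W'_le_Q (C : ALCfg S T K W') : W' ≤ qOf T W' := by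
  intro a ha
  rw [mem_qOf]
  exact ⟨C.hW'T ha, fun b hb => al_comm C.hW'2 b hb a ha⟩

theorem Q_le_T (_C : ALCfg S T K W') : qOf T W' ≤ T := inf_le_left

theorem Q_ne_bot (C : ALCfg S T K W') : qOf T W' ≠ ⊥ := by
  intro h
  obtain ⟨a, ha, ha1⟩ := C.four.exists_ne_one
  have := C.W'_le_Q ha
  rw [h, Subgroup.mem_bot] at this
  exact ha1 this

/-- an element normalizing `W'` and centralizing... conjugates of centralizing elements. -/
theorem conj_cent (_C : ALCfg S T K W') {g q : G}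
    (hg : g ∈ Subgroup.normalizer (W' : Set G)) (hq : ∀ a ∈ W', a * q = q * a) :
    ∀ a ∈ W', a * (g * q * g⁻¹) = (g * q * g⁻¹) * a := by
  intro a ha
  have h1 : g⁻¹ * a * g ∈ W' := conj_inv_mem_of_mem_normalizer hg ha
  have h2 := hq _ h1
  calc a * (g * q * g⁻¹) = g * ((g⁻¹ * a * g) * q) * g⁻¹ := by group
    _ = g * (q * (g⁻¹ * a * g)) * g⁻¹ := by rw [h2]
    _ = (g * q * g⁻¹) * a := by group

theorem T_conj_Q (C : ALCfg S T K W') {t q : G} (ht : t ∈ T) (hq : q ∈ qOf T W') :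
    t * q * t⁻¹ ∈ qOf T W' := by
  rw [mem_qOf] at hq ⊢
  exact ⟨T.mul_mem (T.mul_mem ht hq.1) (T.inv_mem ht), C.conj_cent (C.hTW' ht) hq.2⟩

theorem K_conj_Q (C : ALCfg S T K W') {k q : G} (hk : k ∈ K) (hq : q ∈ qOf T W') :
    k * q * k⁻¹ ∈ qOf T W' := by
  rw [mem_qOf] at hq ⊢
  have hc := C.conj_cent (C.hKW' hk) hq.2
  refine ⟨?_, hc⟩
  -- r := q⁻¹ * (k * q * k⁻¹) ∈ K ⊓ centralizer W'
  have hr1 : q⁻¹ * k * q⁻¹⁻¹ ∈ K :=
    conj_mem_of_mem_normalizer (C.hTK (T.inv_mem hq.1)) hk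
  have hr2 : q⁻¹ * (k * q * k⁻¹) ∈ K := by
    have e : q⁻¹ * (k * q * k⁻¹) = (q⁻¹ * k * q⁻¹⁻¹) * k⁻¹ := by group
    rw [e]; exact K.mul_mem hr1 (K.inv_mem hk)
  have hr3 : q⁻¹ * (k * q * k⁻¹) ∈ Subgroup.centralizer (W' : Set G) := by
    rw [Subgroup.mem_centralizer_iff]
    intro a ha
    have h1 : a * q⁻¹ = q⁻¹ * a := by
      have := hq.2 a ha
      calc a * q⁻¹ = q⁻¹ * (q * a) * q⁻¹ := by group
        _ = q⁻¹ * (a * q) * q⁻¹ := by rw [this]
        _ = q⁻¹ * a := by group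
    calc a * (q⁻¹ * (k * q * k⁻¹)) = (a * q⁻¹) * (k * q * k⁻¹) := by group
      _ = q⁻¹ * (a * (k * q * k⁻¹)) := by rw [h1]; group
      _ = q⁻¹ * ((k * q * k⁻¹) * a) := by rw [hc a ha]
      _ = q⁻¹ * (k * q * k⁻¹) * a := by group
  have hr4 := C.hR (Subgroup.mem_inf.mpr ⟨hr2, hr3⟩)
  have e : k * q * k⁻¹ = q * (q⁻¹ * (k * q * k⁻¹)) := by group
  rw [e]; exact T.mul_mem hq.1 hr4

/-- An element of `T` outside `Q` moves some element of `W'`. -/
theorem exists_moved (_C : ALCfg S T K W') {t : G} (ht : t ∈ T) (htQ : t ∉ qOf T W') :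
    ∃ b ∈ W', t * b * t⁻¹ ≠ b := by
  by_contra hcon
  push Not at hcon
  apply htQ
  rw [mem_qOf]
  refine ⟨ht, fun a ha => ?_⟩
  have := hcon a ha
  calc a * t = (t * a * t⁻¹) * t := by rw [this]
    _ = t * a := by group

/-- Structure of the action on `W'` of an element of `T` outside `Q`. -/
theorem two_struct (C : ALCfg S T K W') {t : G} (ht : t ∈ T) (htQ : t ∉ qOf T W') :
    ∃ a ∈ W', a ≠ 1 ∧ t * a * t⁻¹ = a ∧ ∀ b ∈ W', b ≠ 1 → b ≠ a → t * b * t⁻¹ = b * a := by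
  have hN := C.hTW' ht
  obtain ⟨n, hn⟩ := exists_pow_two_eq_one C.hT2 ht
  obtain ⟨a, ha, ha1, hfix⟩ := C.four.exists_fixed_of_two n t
    (fun u hu => conj_mem_of_mem_normalizer hN hu) hn
  obtain ⟨b, hb, hbm⟩ := C.exists_moved ht htQ
  have hb1 : b ≠ 1 := by
    rintro rfl; apply hbm; group
  have hba : b ≠ a := by
    rintro rfl; exact hbm hfix
  have hcomm := al_comm C.hW'2
  have hab1 : a * b ≠ 1 := by
    intro h
    have : b = a⁻¹ := (inv_eq_of_mul_eq_one_right h).symm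
    rw [inv_eq_self_of_sq (C.hW'2 a ha)] at this
    exact hba this
  have haba : a * b ≠ a := by
    intro h
    apply hb1
    have : a * b = a * 1 := by rw [h, mul_one]
    exact mul_left_cancel this
  have habb : a * b ≠ b := by
    intro h
    apply ha1
    have : a * b = 1 * b := by rw [h, one_mul]
    exact mul_right_cancel this
  have henum := four_enum C.hW'4 ha hb (W'.mul_mem ha hb) ha1 hb1 hab1 (Ne.symm hba)
    (Ne.symm haba) (Ne.symm habb)
  have htb : t * b * t⁻¹ ∈ W' := conj_mem_of_mem_normalizer hN hb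
  have htb' : t * b * t⁻¹ = a * b := by
    rcases henum _ htb with h | h | h | h
    · exfalso; apply hb1
      have : b = t⁻¹ * (t * b * t⁻¹) * t := by group
      rw [this, h]; group
    · exfalso; apply hba
      have : b = t⁻¹ * (t * b * t⁻¹) * t := by group
      rw [this, h]
      have : t⁻¹ * a * t = t⁻¹ * (t * a * t⁻¹) * t := by rw [hfix]
      rw [this]; group
    · exact absurd h hbm
    · exact h
  refine ⟨a, ha, ha1, hfix, ?_⟩
  intro c hc hc1 hca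
  rcases henum c hc with h | h | h | h
  · exact absurd h hc1
  · exact absurd h hca
  · rw [h, htb']; exact hcomm a ha b hb
  · rw [h]
    have : t * (a * b) * t⁻¹ = (t * a * t⁻¹) * (t * b * t⁻¹) := by group
    rw [this, hfix, htb']
    calc a * (a * b) = (a * a) * b := by group
      _ = b := by rw [C.hW'2 a ha, one_mul]
      _ = b * (a * a) := by rw [C.hW'2 a ha, mul_one]
      _ = (b * a) * a := by group
      _ = a * b * a := by rw [hcomm b hb a ha]


/-- two elements of `T` outside `Q` have their product in `Q`. -/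
theorem mul_mem_Q (C : ALCfg S T K W') {t₁ t₂ : G} (h₁ : t₁ ∈ T) (h₂ : t₂ ∈ T)
    (hq₁ : t₁ ∉ qOf T W') (hq₂ : t₂ ∉ qOf T W') : t₁ * t₂ ∈ qOf T W' := by
  obtain ⟨a₁, ha₁, ha₁1, hf₁, hm₁⟩ := C.two_struct h₁ hq₁
  obtain ⟨a₂, ha₂, ha₂1, hf₂, hm₂⟩ := C.two_struct h₂ hq₂
  have h12 : t₁ * t₂ ∈ T := T.mul_mem h₁ h₂
  by_cases hEq : a₁ = a₂
  · subst hEq
    rw [mem_qOf]
    refine ⟨h12, fun b hb => ?_⟩
    have key : (t₁ * t₂) * b * (t₁ * t₂)⁻¹ = b := by
      have e : (t₁ * t₂) * b * (t₁ * t₂)⁻¹ = t₁ * (t₂ * b * t₂⁻¹) * t₁⁻¹ := by group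
      rw [e]
      by_cases hb1 : b = 1
      · subst hb1; group
      by_cases hba : b = a₁
      · subst hba; rw [hf₂, hf₁]
      · rw [hm₂ b hb hb1 hba]
        have hba1 : b * a₁ ≠ 1 := by
          intro h
          have : b = a₁⁻¹ := eq_inv_of_mul_eq_one_left h
          rw [inv_eq_self_of_sq (C.hW'2 a₁ ha₁)] at this
          exact hba this
        have hbaa : b * a₁ ≠ a₁ := by
          intro h
          apply hb1
          have : b * a₁ = 1 * a₁ := by rw [h, one_mul]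
          exact mul_right_cancel this
        rw [hm₁ (b * a₁) (W'.mul_mem hb ha₁) hba1 hbaa, mul_assoc, C.hW'2 a₁ ha₁, mul_one]
    calc b * (t₁ * t₂) = ((t₁ * t₂) * b * (t₁ * t₂)⁻¹) * (t₁ * t₂) := by rw [key]
      _ = (t₁ * t₂) * b := by group
  · exfalso
    obtain ⟨n, hn⟩ := exists_pow_two_eq_one C.hT2 h12
    obtain ⟨c, hc, hc1, hfix⟩ := C.four.exists_fixed_of_two n (t₁ * t₂)
      (fun u hu => conj_mem_of_mem_normalizer (C.hTW' h12) hu) hn
    have e : (t₁ * t₂) * c * (t₁ * t₂)⁻¹ = t₁ * (t₂ * c * t₂⁻¹) * t₁⁻¹ := by group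
    rw [e] at hfix
    by_cases hca₂ : c = a₂
    · subst hca₂
      rw [hf₂, hm₁ c hc hc1 (fun h => hEq h.symm)] at hfix
      apply ha₁1
      have : c * a₁ = c * 1 := by rw [hfix, mul_one]
      exact mul_left_cancel this
    · rw [hm₂ c hc hc1 hca₂] at hfix
      by_cases hca₁ : c * a₂ = a₁
      · rw [hca₁, hf₁] at hfix
        apply ha₂1
        have : c * a₂ = c * 1 := by rw [hca₁, hfix, mul_one]
        exact mul_left_cancel this
      · have hne1 : c * a₂ ≠ 1 := by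
          intro h
          have : c = a₂⁻¹ := eq_inv_of_mul_eq_one_left h
          rw [inv_eq_self_of_sq (C.hW'2 a₂ ha₂)] at this
          exact hca₂ this
        rw [hm₁ (c * a₂) (W'.mul_mem hc ha₂) hne1 hca₁] at hfix
        apply hEq
        have h3 : c * (a₂ * a₁) = c * 1 := by rw [← mul_assoc, hfix, mul_one]
        have h4 : a₂ * a₁ = 1 := mul_left_cancel h3
        have : a₂ = a₁⁻¹ := eq_inv_of_mul_eq_one_left h4
        rw [inv_eq_self_of_sq (C.hW'2 a₁ ha₁)] at this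
        exact this.symm

/-- The key step: a four-group `V ≤ T`, `V ≰ Q`, all of whose involution centralizers normalize
`V`, contains an involution `u ∉ Q` acting trivially on `Q / W'`. -/
theorem key (C : ALCfg S T K W') {V : Subgroup G} (hV4 : Nat.card V = 4)
    (hV2 : ∀ v ∈ V, v * v = 1) (hVT : V ≤ T)
    (hP2 : ∀ v ∈ V, v ≠ 1 →
      Subgroup.centralizer ({v} : Set G) ≤ Subgroup.normalizer (V : Set G))
    {u : G} (hu : u ∈ V) (huQ : u ∉ qOf T W') :
    ∃ w₀ ∈ W', w₀ ≠ 1 ∧ u * w₀ * u⁻¹ = w₀ ∧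
      (∀ b ∈ W', u * b * u⁻¹ = b → b = 1 ∨ b = w₀) ∧
      (∀ b ∈ W', u * b * u⁻¹ ≠ b → u * b * u⁻¹ = b * w₀) ∧
      ∀ q ∈ qOf T W', u * q * u⁻¹ = q ∨ u * q * u⁻¹ = q * w₀ := by
  have huT := hVT hu
  have hu2 := hV2 u hu
  have hcomm := al_comm C.hW'2
  obtain ⟨b, hb, hbm⟩ := C.exists_moved huT huQ
  have hna : ¬ ∀ w ∈ W', u * w * u⁻¹ = w := fun h => hbm (h b hb)
  obtain ⟨w₀, hw₀, hw₀1, hw₀fix, hfixed, hmoved⟩ :=
    invol_struct C.hW'4 C.hW'2 hcomm (C.hTW' huT) hu2 hna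
  refine ⟨w₀, hw₀, hw₀1, hw₀fix, hfixed, hmoved, ?_⟩
  have hu1 : u ≠ 1 := by rintro rfl; exact huQ (Subgroup.one_mem _)
  obtain ⟨v, hv, hv1, hvu⟩ : ∃ v ∈ V, v ≠ 1 ∧ v ≠ u := by
    by_contra hcon
    push Not at hcon
    have hle : V ≤ Subgroup.zpowers u := by
      intro g hg
      by_cases hg1 : g = 1
      · rw [hg1]; exact Subgroup.one_mem _
      · rw [hcon g hg hg1]; exact Subgroup.mem_zpowers u
    have hc2 := Cfsg.Agent.Lib.Helper33.KS12.card_zpowers_of_sq hu2 hu1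
    have hfin : Finite (Subgroup.zpowers u) := Nat.finite_of_card_ne_zero (by omega)
    have := Subgroup.card_le_of_le hle
    omega
  obtain ⟨u₀, hu₀V, hu₀1, hu₀Q⟩ : ∃ u₀ ∈ V, u₀ ≠ 1 ∧ u₀ ∈ qOf T W' := by
    by_cases hvQ : v ∈ qOf T W'
    · exact ⟨v, hv, hv1, hvQ⟩
    · refine ⟨u * v, V.mul_mem hu hv, ?_, C.mul_mem_Q huT (hVT hv) huQ hvQ⟩
      intro h
      apply hvu
      have : v = u⁻¹ := eq_inv_of_mul_eq_one_right h
      rw [this, inv_eq_self_of_sq hu2]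
  have hW'N : W' ≤ Subgroup.normalizer (V : Set G) := by
    intro b' hb'
    apply hP2 u₀ hu₀V hu₀1
    rw [Subgroup.mem_centralizer_iff]
    intro g hg
    rw [Set.mem_singleton_iff] at hg
    subst hg
    exact ((mem_qOf.mp hu₀Q).2 b' hb').symm
  have hw₀V : w₀ ∈ V := by
    have h1 := hmoved b hb hbm
    have h2 : b⁻¹ * u * b⁻¹⁻¹ ∈ V := conj_mem_of_mem_normalizer (hW'N (W'.inv_mem hb)) hu
    have e : w₀ = (b⁻¹ * u * b⁻¹⁻¹) * u⁻¹ := by
      have : (b⁻¹ * u * b⁻¹⁻¹) * u⁻¹ = b⁻¹ * (u * b * u⁻¹) := by group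
      rw [this, h1]; group
    rw [e]; exact V.mul_mem h2 (V.inv_mem hu)
  have hQN : qOf T W' ≤ Subgroup.normalizer (V : Set G) := by
    intro q hq
    apply hP2 w₀ hw₀V hw₀1
    rw [Subgroup.mem_centralizer_iff]
    intro g hg
    rw [Set.mem_singleton_iff] at hg
    subst hg
    exact (mem_qOf.mp hq).2 g hw₀
  have hw₀u : w₀ ≠ u := by rintro rfl; exact huQ (C.W'_le_Q hw₀)
  have huw1 : u * w₀ ≠ 1 := by
    intro h
    apply hw₀u
    have : w₀ = u⁻¹ := eq_inv_of_mul_eq_one_right h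
    rw [this, inv_eq_self_of_sq hu2]
  have huwu : u * w₀ ≠ u := by
    intro h
    apply hw₀1
    have : u * w₀ = u * 1 := by rw [h, mul_one]
    exact mul_left_cancel this
  have huww : u * w₀ ≠ w₀ := by
    intro h
    apply hu1
    have : u * w₀ = 1 * w₀ := by rw [h, one_mul]
    exact mul_right_cancel this
  have henum := four_enum hV4 hw₀V hu (V.mul_mem hu hw₀V) hw₀1 hu1 huw1 hw₀u
    (Ne.symm huww) (Ne.symm huwu)
  intro q hq
  have hquq : q * u * q⁻¹ ∈ V := conj_mem_of_mem_normalizer (hQN hq) hu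
  have hqw : w₀ * q = q * w₀ := (mem_qOf.mp hq).2 w₀ hw₀
  have huinv : u⁻¹ = u := inv_eq_self_of_sq hu2
  rcases henum _ hquq with h | h | h | h
  · exfalso; apply hu1
    have : u = q⁻¹ * (q * u * q⁻¹) * q := by group
    rw [this, h]; group
  · exfalso; apply hw₀u
    have : u = q⁻¹ * (q * u * q⁻¹) * q := by group
    rw [this, h]
    calc w₀ = q⁻¹ * (q * w₀) := by group
      _ = q⁻¹ * (w₀ * q) := by rw [hqw]
      _ = q⁻¹ * w₀ * q := by group
  · left
    calc u * q * u⁻¹ = (q * u * q⁻¹) * q * u⁻¹ := by rw [h]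
      _ = q := by group
  · right
    have h3 : u⁻¹ * q * u = w₀ * q := by
      calc u⁻¹ * q * u = u⁻¹ * (q * u * q⁻¹) * q := by group
        _ = u⁻¹ * (u * w₀) * q := by rw [h]
        _ = w₀ * q := by group
    rw [huinv] at h3
    calc u * q * u⁻¹ = u * q * u := by rw [huinv]
      _ = w₀ * q := h3
      _ = q * w₀ := hqw

/-- Lemma N: subgroups between `W'` and `Q` normalized by `T` are normalized by `K`. -/
theorem lemN (C : ALCfg S T K W') {u w₀ : G} (huT : u ∈ T) (huQ : u ∉ qOf T W')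
    (hu2 : u * u = 1) (hw₀ : w₀ ∈ W')
    (huq : ∀ q ∈ qOf T W', u * q * u⁻¹ = q ∨ u * q * u⁻¹ = q * w₀)
    {Y : Subgroup G} (hWY : W' ≤ Y) (hYQ : Y ≤ qOf T W')
    (hTY : ∀ t ∈ T, ∀ y ∈ Y, t * y * t⁻¹ ∈ Y) :
    ∀ k ∈ K, ∀ y ∈ Y, k * y * k⁻¹ ∈ Y := by
  have hTN : T ≤ Subgroup.normalizer (Y : Set G) := al_le_normalizer hTY
  have hKN : K ≤ Subgroup.normalizer (Y : Set G) := by
    refine le_trans C.hKT ?_
    rw [Subgroup.commutator_le]
    intro k hk t ht
    have h1 : k * t * k⁻¹ ∈ Subgroup.normalizer (Y : Set G) := by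
      by_cases htQ : t ∈ qOf T W'
      · exact hTN (C.Q_le_T (C.K_conj_Q hk htQ))
      · have htu : t * u ∈ qOf T W' := C.mul_mem_Q ht huT htQ huQ
        have e : k * t * k⁻¹ = (k * (t * u) * k⁻¹) * (k * u * k⁻¹) := by
          have : (k * (t * u) * k⁻¹) * (k * u * k⁻¹) = k * t * (u * u) * k⁻¹ := by group
          rw [this, hu2]; group
        rw [e]
        refine Subgroup.mul_mem _ (hTN (C.Q_le_T (C.K_conj_Q hk htu))) ?_
        have hinv : (k * u * k⁻¹) * (k * u * k⁻¹) = 1 := by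
          have : (k * u * k⁻¹) * (k * u * k⁻¹) = k * (u * u) * k⁻¹ := by group
          rw [this, hu2]; group
        have hfwd : ∀ y ∈ Y, (k * u * k⁻¹) * y * (k * u * k⁻¹)⁻¹ ∈ Y := by
          intro y hy
          have hy' : k⁻¹ * y * k⁻¹⁻¹ ∈ qOf T W' := C.K_conj_Q (K.inv_mem hk) (hYQ hy)
          have e2 : (k * u * k⁻¹) * y * (k * u * k⁻¹)⁻¹
              = k * (u * (k⁻¹ * y * k⁻¹⁻¹) * u⁻¹) * k⁻¹ := by group
          rw [e2]
          rcases huq _ hy' with h | h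
          · rw [h]
            have : k * (k⁻¹ * y * k⁻¹⁻¹) * k⁻¹ = y := by group
            rw [this]; exact hy
          · rw [h]
            have : k * (k⁻¹ * y * k⁻¹⁻¹ * w₀) * k⁻¹ = y * (k * w₀ * k⁻¹) := by group
            rw [this]
            exact Y.mul_mem hy (hWY (conj_mem_of_mem_normalizer (C.hKW' hk) hw₀))
        rw [Subgroup.mem_normalizer_iff]
        intro y
        constructor
        · exact hfwd y
        · intro hy
          have h2 := hfwd _ hy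
          have hinv' : (k * u * k⁻¹)⁻¹ = k * u * k⁻¹ := inv_eq_self_of_sq hinv
          have e3 : (k * u * k⁻¹) * ((k * u * k⁻¹) * y * (k * u * k⁻¹)⁻¹) * (k * u * k⁻¹)⁻¹
              = y := by
            rw [hinv']
            calc (k * u * k⁻¹) * ((k * u * k⁻¹) * y * (k * u * k⁻¹)) * (k * u * k⁻¹)
                = ((k * u * k⁻¹) * (k * u * k⁻¹)) * y * ((k * u * k⁻¹) * (k * u * k⁻¹)) := by
                  group
              _ = y := by rw [hinv]; group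
          rwa [e3] at h2
    have h2 : t⁻¹ ∈ Subgroup.normalizer (Y : Set G) := hTN (T.inv_mem ht)
    have e : ⁅k, t⁆ = (k * t * k⁻¹) * t⁻¹ := by rw [commutatorElement_def]
    rw [e]; exact Subgroup.mul_mem _ h1 h2
  intro k hk y hy
  exact conj_mem_of_mem_normalizer (hKN hk) hy

/-- `b = 1`: the `x`-conjugate of `W'` does not centralize `W'`. -/
theorem b1 (C : ALCfg S T K W') {x : G} (hxS : x ∈ S) (hxT : x ∉ T)
    (hxN : x ∈ Subgroup.normalizer (T : Set G)) (hx2 : x * x ∈ T)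
    {u w₀ : G} (huT : u ∈ T) (huQ : u ∉ qOf T W') (hu2 : u * u = 1) (hw₀ : w₀ ∈ W')
    (huq : ∀ q ∈ qOf T W', u * q * u⁻¹ = q ∨ u * q * u⁻¹ = q * w₀) :
    ∃ a ∈ W', x * a * x⁻¹ ∉ qOf T W' := by
  by_contra hcon
  push Not at hcon
  let W'' : Subgroup G := W'.map (MulAut.conj x).toMonoidHom
  have hmemW'' : ∀ g, g ∈ W'' ↔ ∃ a ∈ W', x * a * x⁻¹ = g := by
    intro g
    simp only [W'', Subgroup.mem_map, MulEquiv.coe_toMonoidHom, MulAut.conj_apply]
  have hWY : W' ≤ W' ⊔ W'' := le_sup_left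
  have hW''Y : W'' ≤ W' ⊔ W'' := le_sup_right
  have hYQ : W' ⊔ W'' ≤ qOf T W' := by
    refine sup_le C.W'_le_Q ?_
    intro g hg
    obtain ⟨a, ha, rfl⟩ := (hmemW'' g).mp hg
    exact hcon a ha
  have hTW'' : ∀ t ∈ T, ∀ g ∈ W'', t * g * t⁻¹ ∈ W'' := by
    intro t ht g hg
    obtain ⟨a, ha, rfl⟩ := (hmemW'' g).mp hg
    rw [hmemW'']
    have h1 : x⁻¹ * t * x ∈ T := conj_inv_mem_of_mem_normalizer hxN ht
    exact ⟨(x⁻¹ * t * x) * a * (x⁻¹ * t * x)⁻¹,
      conj_mem_of_mem_normalizer (C.hTW' h1) ha, by group⟩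
  have hTY : ∀ t ∈ T, ∀ y ∈ W' ⊔ W'', t * y * t⁻¹ ∈ W' ⊔ W'' := by
    intro t ht
    exact al_conj_sup (fun a ha => hWY (conj_mem_of_mem_normalizer (C.hTW' ht) ha))
      (fun b hb => hW''Y (hTW'' t ht b hb))
  have hKY := C.lemN huT huQ hu2 hw₀ huq hWY hYQ hTY
  have hY1 : W' ⊔ W'' ≠ ⊥ := by
    intro h
    obtain ⟨a, ha, ha1⟩ := C.four.exists_ne_one
    have := hWY ha
    rw [h, Subgroup.mem_bot] at this
    exact ha1 this
  have hxY : ∀ n ∈ W' ⊔ W'', x * n * x⁻¹ ∈ W' ⊔ W'' := by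
    refine al_conj_sup (fun a ha => hW''Y ((hmemW'' _).mpr ⟨a, ha, rfl⟩)) ?_
    intro b hb
    obtain ⟨a, ha, rfl⟩ := (hmemW'' b).mp hb
    have e : x * (x * a * x⁻¹) * x⁻¹ = (x * x) * a * (x * x)⁻¹ := by group
    rw [e]
    exact hWY (conj_mem_of_mem_normalizer (C.hTW' hx2) ha)
  have hxY' : ∀ n ∈ W' ⊔ W'', x⁻¹ * n * x ∈ W' ⊔ W'' := by
    have h : ∀ n ∈ W' ⊔ W'', x⁻¹ * n * x⁻¹⁻¹ ∈ W' ⊔ W'' := by
      refine al_conj_sup ?_ ?_
      · intro a ha
        apply hW''Y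
        rw [hmemW'']
        exact ⟨(x * x)⁻¹ * a * (x * x)⁻¹⁻¹,
          conj_mem_of_mem_normalizer (C.hTW' (T.inv_mem hx2)) ha, by group⟩
      · intro b hb
        obtain ⟨a, ha, rfl⟩ := (hmemW'' b).mp hb
        have e : x⁻¹ * (x * a * x⁻¹) * x⁻¹⁻¹ = a := by group
        rw [e]; exact hWY ha
    intro n hn
    have := h n hn
    rwa [inv_inv] at this
  exact hxT (C.hKP (W' ⊔ W'') hY1 (le_trans hYQ C.Q_le_T) hKY hTY x hxS hxY hxY')

/-- `Q` has exponent 2. -/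
theorem elem (C : ALCfg S T K W') {x : G} (hxS : x ∈ S) (hxT : x ∉ T)
    (hxN : x ∈ Subgroup.normalizer (T : Set G)) (hx2 : x * x ∈ T)
    {u w₀ : G} (huT : u ∈ T) (huQ : u ∉ qOf T W') (hu2 : u * u = 1) (hw₀ : w₀ ∈ W')
    (huq : ∀ q ∈ qOf T W', u * q * u⁻¹ = q ∨ u * q * u⁻¹ = q * w₀) :
    ∀ q ∈ qOf T W', q * q = 1 := by
  have hx'S : x⁻¹ ∈ S := S.inv_mem hxS
  have hx'T : x⁻¹ ∉ T := fun h => hxT (by simpa using T.inv_mem h)
  have hx'N : x⁻¹ ∈ Subgroup.normalizer (T : Set G) := Subgroup.inv_mem _ hxN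
  have hx'2 : x⁻¹ * x⁻¹ ∈ T := by
    have : x⁻¹ * x⁻¹ = (x * x)⁻¹ := by group
    rw [this]; exact T.inv_mem hx2
  obtain ⟨a', ha', ha'Q⟩ := C.b1 hx'S hx'T hx'N hx'2 huT huQ hu2 hw₀ huq
  rw [inv_inv] at ha'Q
  have ha'T : x⁻¹ * a' * x ∈ T := conj_inv_mem_of_mem_normalizer hxN (C.hW'T ha')
  have hsq : ∀ q ∈ qOf T W', ∃ d ∈ qOf T W', x⁻¹ * d * x ∈ qOf T W' ∧ q * q = d * d := by
    intro q hq
    by_cases hqx : x⁻¹ * q * x ∈ qOf T W'
    · exact ⟨q, hq, hqx, rfl⟩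
    · have hqT : x⁻¹ * q * x ∈ T := conj_inv_mem_of_mem_normalizer hxN (C.Q_le_T hq)
      have h1 := C.mul_mem_Q hqT ha'T hqx ha'Q
      have e : (x⁻¹ * q * x) * (x⁻¹ * a' * x) = x⁻¹ * (q * a') * x := by group
      rw [e] at h1
      refine ⟨q * a', (qOf T W').mul_mem hq (C.W'_le_Q ha'), h1, ?_⟩
      have hc : a' * q = q * a' := (mem_qOf.mp hq).2 a' ha'
      calc q * q = q * q * (a' * a') := by rw [C.hW'2 a' ha', mul_one]
        _ = q * (q * a') * a' := by group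
        _ = q * (a' * q) * a' := by rw [hc]
        _ = (q * a') * (q * a') := by group
  by_contra hcon
  push Not at hcon
  obtain ⟨q₀, hq₀, hq₀1⟩ := hcon
  have hX1 : Subgroup.closure {g : G | ∃ q ∈ qOf T W', g = q * q} ≠ ⊥ := by
    intro h
    have : q₀ * q₀ ∈ Subgroup.closure {g : G | ∃ q ∈ qOf T W', g = q * q} :=
      Subgroup.subset_closure ⟨q₀, hq₀, rfl⟩
    rw [h, Subgroup.mem_bot] at this
    exact hq₀1 this
  have hXQ : Subgroup.closure {g : G | ∃ q ∈ qOf T W', g = q * q} ≤ qOf T W' := by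
    rw [Subgroup.closure_le]
    rintro g ⟨q, hq, rfl⟩
    exact (qOf T W').mul_mem hq hq
  have hgen : ∀ (s : G), (∀ q ∈ qOf T W', s * q * s⁻¹ ∈ qOf T W') →
      ∀ n ∈ Subgroup.closure {g : G | ∃ q ∈ qOf T W', g = q * q},
        s * n * s⁻¹ ∈ Subgroup.closure {g : G | ∃ q ∈ qOf T W', g = q * q} := by
    intro s hs
    apply al_conj_closure
    rintro g ⟨q, hq, rfl⟩
    apply Subgroup.subset_closure
    exact ⟨s * q * s⁻¹, hs q hq, by group⟩
  have hKX := fun k (hk : k ∈ K) => hgen k (fun q hq => C.K_conj_Q hk hq)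
  have hTX := fun t (ht : t ∈ T) => hgen t (fun q hq => C.T_conj_Q ht hq)
  have hxX : ∀ n ∈ Subgroup.closure {g : G | ∃ q ∈ qOf T W', g = q * q},
      x * n * x⁻¹ ∈ Subgroup.closure {g : G | ∃ q ∈ qOf T W', g = q * q} := by
    apply al_conj_closure
    rintro g ⟨q, hq, rfl⟩
    obtain ⟨d, hd, hdx, hqd⟩ := hsq q hq
    apply Subgroup.subset_closure
    refine ⟨x * d * x⁻¹, ?_, ?_⟩
    · have e : x * d * x⁻¹ = (x * x) * (x⁻¹ * d * x) * (x * x)⁻¹ := by group
      rw [e]; exact C.T_conj_Q hx2 hdx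
    · rw [hqd]; group
  have hxX' : ∀ n ∈ Subgroup.closure {g : G | ∃ q ∈ qOf T W', g = q * q},
      x⁻¹ * n * x ∈ Subgroup.closure {g : G | ∃ q ∈ qOf T W', g = q * q} := by
    have h : ∀ n ∈ Subgroup.closure {g : G | ∃ q ∈ qOf T W', g = q * q},
        x⁻¹ * n * x⁻¹⁻¹ ∈ Subgroup.closure {g : G | ∃ q ∈ qOf T W', g = q * q} := by
      apply al_conj_closure
      rintro g ⟨q, hq, rfl⟩
      obtain ⟨d, hd, hdx, hqd⟩ := hsq q hq
      apply Subgroup.subset_closure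
      refine ⟨x⁻¹ * d * x, hdx, ?_⟩
      rw [hqd]; group
    intro n hn
    have := h n hn
    rwa [inv_inv] at this
  exact hxT (C.hKP _ hX1 (le_trans hXQ C.Q_le_T) hKX hTX x hxS hxX hxX')


/-- conjugates of `W` inside `Q ∩ Q^x`: auxiliary sets. -/
def dOf (Q : Subgroup G) (x : G) : Set G := {v | v ∈ Q ∧ x⁻¹ * v * x ∈ Q}

/-- auxiliary: the conjugating elements. -/
def gOf (Q W : Subgroup G) (x : G) : Set G := {g | ∀ w ∈ W, g * w * g⁻¹ ∈ dOf Q x}

/-- auxiliary: the generators. -/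
def sOf (Q W : Subgroup G) (x : G) : Set G :=
  {n | ∃ g ∈ gOf Q W x, ∃ w ∈ W, n = g * w * g⁻¹}

/-- Some conjugate of `W` lies in `T` but not in `Q`. -/
theorem exists_conj (C : ALCfg S T K W') {W : Subgroup G} {x : G} (hxS : x ∈ S) (hxT : x ∉ T)
    (hxN : x ∈ Subgroup.normalizer (T : Set G)) (hx2 : x * x ∈ T)
    (hSW : S ≤ Subgroup.normalizer (W : Set G)) (hW1 : W ≠ ⊥) (hWT : W ≤ T) :
    ∃ g : G, (∀ w ∈ W, g * w * g⁻¹ ∈ T) ∧ ∃ w ∈ W, g * w * g⁻¹ ∉ qOf T W' := by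
  by_cases hWQ : W ≤ qOf T W'
  swap
  · obtain ⟨w, hw, hwQ⟩ := SetLike.not_le_iff_exists.mp hWQ
    refine ⟨1, fun w hw => ?_, w, hw, ?_⟩
    · simpa using hWT hw
    · simpa using hwQ
  by_contra hcon
  push Not at hcon
  have h1G : (1 : G) ∈ gOf (qOf T W') W x := by
    intro w hw
    refine ⟨?_, ?_⟩
    · have := hWQ hw; simpa using this
    · have h := hWQ (conj_inv_mem_of_mem_normalizer (hSW hxS) hw)
      simpa using h
  obtain ⟨w₁, hw₁, hw₁1⟩ : ∃ w ∈ W, w ≠ 1 := by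
    by_contra h
    push Not at h
    exact hW1 ((Subgroup.eq_bot_iff_forall W).mpr h)
  have hX1 : Subgroup.closure (sOf (qOf T W') W x) ≠ ⊥ := by
    intro h
    have : w₁ ∈ Subgroup.closure (sOf (qOf T W') W x) :=
      Subgroup.subset_closure ⟨1, h1G, w₁, hw₁, by group⟩
    rw [h, Subgroup.mem_bot] at this
    exact hw₁1 this
  have hXQ : Subgroup.closure (sOf (qOf T W') W x) ≤ qOf T W' := by
    rw [Subgroup.closure_le]
    rintro n ⟨g, hg, w, hw, rfl⟩
    exact (hg w hw).1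
  have hDT : ∀ t ∈ T, ∀ v ∈ dOf (qOf T W') x, t * v * t⁻¹ ∈ dOf (qOf T W') x := by
    rintro t ht v ⟨hv1, hv2⟩
    refine ⟨C.T_conj_Q ht hv1, ?_⟩
    have e : x⁻¹ * (t * v * t⁻¹) * x
        = (x⁻¹ * t * x) * (x⁻¹ * v * x) * (x⁻¹ * t * x)⁻¹ := by group
    rw [e]; exact C.T_conj_Q (conj_inv_mem_of_mem_normalizer hxN ht) hv2
  have hDx : ∀ v ∈ dOf (qOf T W') x, x * v * x⁻¹ ∈ dOf (qOf T W') x := by
    rintro v ⟨hv1, hv2⟩
    refine ⟨?_, ?_⟩
    · have e : x * v * x⁻¹ = (x * x) * (x⁻¹ * v * x) * (x * x)⁻¹ := by group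
      rw [e]; exact C.T_conj_Q hx2 hv2
    · have e : x⁻¹ * (x * v * x⁻¹) * x = v := by group
      rw [e]; exact hv1
  have hDx' : ∀ v ∈ dOf (qOf T W') x, x⁻¹ * v * x⁻¹⁻¹ ∈ dOf (qOf T W') x := by
    rintro v ⟨hv1, hv2⟩
    refine ⟨?_, ?_⟩
    · rw [inv_inv]; exact hv2
    · have h := C.T_conj_Q (T.inv_mem hx2) hv1
      rw [inv_inv] at h ⊢
      have e : x⁻¹ * (x⁻¹ * v * x) * x = (x * x)⁻¹ * v * (x * x) := by
        simp only [mul_inv_rev, mul_assoc]
      rw [e]; exact h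
  have hgen : ∀ s : G, (∀ v ∈ dOf (qOf T W') x, s * v * s⁻¹ ∈ dOf (qOf T W') x) →
      ∀ n ∈ Subgroup.closure (sOf (qOf T W') W x),
        s * n * s⁻¹ ∈ Subgroup.closure (sOf (qOf T W') W x) := by
    intro s hs
    apply al_conj_closure
    rintro n ⟨g, hg, w, hw, rfl⟩
    apply Subgroup.subset_closure
    refine ⟨s * g, ?_, w, hw, by group⟩
    intro w' hw'
    have e : (s * g) * w' * (s * g)⁻¹ = s * (g * w' * g⁻¹) * s⁻¹ := by group
    rw [e]; exact hs _ (hg w' hw')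
  have hKX : ∀ k ∈ K, ∀ n ∈ Subgroup.closure (sOf (qOf T W') W x),
      k * n * k⁻¹ ∈ Subgroup.closure (sOf (qOf T W') W x) := by
    intro k hk
    apply al_conj_closure
    rintro n ⟨g, hg, w, hw, rfl⟩
    apply Subgroup.subset_closure
    refine ⟨k * g, ?_, w, hw, by group⟩
    intro w' hw'
    have hQ1 : ∀ w'' ∈ W, k * (g * w'' * g⁻¹) * k⁻¹ ∈ qOf T W' :=
      fun w'' hw'' => C.K_conj_Q hk (hg w'' hw'').1
    have e : (k * g) * w' * (k * g)⁻¹ = k * (g * w' * g⁻¹) * k⁻¹ := by group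
    rw [e]
    refine ⟨hQ1 w' hw', ?_⟩
    have h3 := hcon (x⁻¹ * k * g) (fun w'' hw'' => by
      have e2 : (x⁻¹ * k * g) * w'' * (x⁻¹ * k * g)⁻¹
          = x⁻¹ * (k * (g * w'' * g⁻¹) * k⁻¹) * x := by group
      rw [e2]; exact conj_inv_mem_of_mem_normalizer hxN (C.Q_le_T (hQ1 w'' hw''))) w' hw'
    have e2 : (x⁻¹ * k * g) * w' * (x⁻¹ * k * g)⁻¹
        = x⁻¹ * (k * (g * w' * g⁻¹) * k⁻¹) * x := by group
    rw [e2] at h3; exact h3
  have hxX' : ∀ n ∈ Subgroup.closure (sOf (qOf T W') W x),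
      x⁻¹ * n * x ∈ Subgroup.closure (sOf (qOf T W') W x) := by
    intro n hn
    have := hgen x⁻¹ hDx' n hn
    rwa [inv_inv] at this
  exact hxT (C.hKP _ hX1 (le_trans hXQ C.Q_le_T) hKX (fun t ht => hgen t (hDT t ht)) x hxS
    (hgen x hDx) hxX')

end ALCfg


/-- A fixed-point-free element on a four-group acts as a 3-cycle. -/
theorem fpf_cycle {W : Subgroup G} (hW4 : Nat.card W = 4) (hW2 : ∀ w ∈ W, w * w = 1)
    {k : G} (hkN : k ∈ Subgroup.normalizer (W : Set G))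
    (hk : ∀ a ∈ W, a ≠ 1 → k * a * k⁻¹ ≠ a) {a : G} (ha : a ∈ W) (ha1 : a ≠ 1) :
    k * (k * a * k⁻¹) * k⁻¹ = a * (k * a * k⁻¹) ∧ k * (a * (k * a * k⁻¹)) * k⁻¹ = a := by
  have hcomm := al_comm hW2
  have ha₁ : k * a * k⁻¹ ∈ W := conj_mem_of_mem_normalizer hkN ha
  have ha₁1 : k * a * k⁻¹ ≠ 1 := by
    intro h; apply ha1
    have : a = k⁻¹ * (k * a * k⁻¹) * k := by group
    rw [this, h]; group
  have ha₁a : k * a * k⁻¹ ≠ a := hk a ha ha1
  have h1 : a * (k * a * k⁻¹) ≠ 1 := by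
    intro h
    apply ha₁a
    have : k * a * k⁻¹ = a⁻¹ := eq_inv_of_mul_eq_one_right h
    rw [this, inv_eq_self_of_sq (hW2 a ha)]
  have h2 : a * (k * a * k⁻¹) ≠ a := by
    intro h; apply ha₁1
    have : a * (k * a * k⁻¹) = a * 1 := by rw [h, mul_one]
    exact mul_left_cancel this
  have h3 : a * (k * a * k⁻¹) ≠ k * a * k⁻¹ := by
    intro h; apply ha1
    have : a * (k * a * k⁻¹) = 1 * (k * a * k⁻¹) := by rw [h, one_mul]
    exact mul_right_cancel this
  have henum := four_enum hW4 ha ha₁ (W.mul_mem ha ha₁) ha1 ha₁1 h1 (Ne.symm ha₁a)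
    (Ne.symm h2) (Ne.symm h3)
  have hka₁ : k * (k * a * k⁻¹) * k⁻¹ ∈ W := conj_mem_of_mem_normalizer hkN ha₁
  have key : k * (k * a * k⁻¹) * k⁻¹ = a * (k * a * k⁻¹) := by
    rcases henum _ hka₁ with h | h | h | h
    · exfalso; apply ha₁1
      have : k * a * k⁻¹ = k⁻¹ * (k * (k * a * k⁻¹) * k⁻¹) * k := by group
      rw [this, h]; group
    · exfalso
      apply hk (a * (k * a * k⁻¹)) (W.mul_mem ha ha₁) h1
      have : k * (a * (k * a * k⁻¹)) * k⁻¹
          = (k * a * k⁻¹) * (k * (k * a * k⁻¹) * k⁻¹) := by group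
      rw [this, h]; exact hcomm _ ha₁ a ha
    · exact absurd h (hk _ ha₁ ha₁1)
    · exact h
  refine ⟨key, ?_⟩
  have : k * (a * (k * a * k⁻¹)) * k⁻¹
      = (k * a * k⁻¹) * (k * (k * a * k⁻¹) * k⁻¹) := by group
  rw [this, key]
  calc (k * a * k⁻¹) * (a * (k * a * k⁻¹)) = (k * a * k⁻¹) * ((k * a * k⁻¹) * a) := by
        rw [hcomm a ha _ ha₁]
    _ = ((k * a * k⁻¹) * (k * a * k⁻¹)) * a := by group
    _ = a := by rw [hW2 _ ha₁, one_mul]

theorem three_prod {W : Subgroup G} (hW4 : Nat.card W = 4) (hW2 : ∀ w ∈ W, w * w = 1)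
    {k : G} (hkN : k ∈ Subgroup.normalizer (W : Set G))
    (hk : ∀ a ∈ W, a ≠ 1 → k * a * k⁻¹ ≠ a) {e : G} (he : e ∈ W) :
    e * (k * e * k⁻¹) * (k * (k * e * k⁻¹) * k⁻¹) = 1 := by
  by_cases he1 : e = 1
  · subst he1; group
  · rw [(fpf_cycle hW4 hW2 hkN hk he he1).1]
    exact hW2 _ (W.mul_mem he (conj_mem_of_mem_normalizer hkN he))

theorem al_conj_fix {m k y : G} (h1 : m * y * m⁻¹ = y) (h2 : (m * k) * y = y * (m * k)) :
    k * y * k⁻¹ = y := by
  have h3 : m⁻¹ * y * m = y := by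
    calc m⁻¹ * y * m = m⁻¹ * (m * y * m⁻¹) * m := by rw [h1]
      _ = y := by group
  calc k * y * k⁻¹ = m⁻¹ * ((m * k) * y) * (m * k)⁻¹ * m := by group
    _ = m⁻¹ * (y * (m * k)) * (m * k)⁻¹ * m := by rw [h2]
    _ = m⁻¹ * y * m := by group
    _ = y := h3

theorem exists_third {V : Subgroup G} (hV4 : Nat.card V = 4) {u : G} (hu2 : u * u = 1)
    (hu1 : u ≠ 1) : ∃ v ∈ V, v ≠ 1 ∧ v ≠ u := by
  by_contra hcon
  push Not at hcon
  have hle : V ≤ Subgroup.zpowers u := by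
    intro g hg
    by_cases hg1 : g = 1
    · rw [hg1]; exact Subgroup.one_mem _
    · rw [hcon g hg hg1]; exact Subgroup.mem_zpowers u
  have hc2 := Cfsg.Agent.Lib.Helper33.KS12.card_zpowers_of_sq hu2 hu1
  have hfin : Finite (Subgroup.zpowers u) := Nat.finite_of_card_ne_zero (by omega)
  have := Subgroup.card_le_of_le hle
  omega

/-- `(u k u⁻¹) k` centralizes the four-group. -/
theorem inv_conj_cent {W' : Subgroup G} (hW'4 : Nat.card W' = 4)
    (hW'2 : ∀ w ∈ W', w * w = 1) {u k w₀ : G}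
    (hkN : k ∈ Subgroup.normalizer (W' : Set G))
    (hkf : ∀ a ∈ W', a ≠ 1 → k * a * k⁻¹ ≠ a)
    (hw₀ : w₀ ∈ W') (hw₀1 : w₀ ≠ 1) (hu2 : u * u = 1) (hw₀fix : u * w₀ * u⁻¹ = w₀)
    (hfixed : ∀ b ∈ W', u * b * u⁻¹ = b → b = 1 ∨ b = w₀)
    (hmoved : ∀ b ∈ W', u * b * u⁻¹ ≠ b → u * b * u⁻¹ = b * w₀) :
    ∀ b ∈ W', ((u * k * u⁻¹) * k) * b * ((u * k * u⁻¹) * k)⁻¹ = b := by
  have hcomm := al_comm hW'2
  have huinv : u⁻¹ = u := inv_eq_self_of_sq hu2
  obtain ⟨a₁, ha₁def⟩ : ∃ a₁, a₁ = k * w₀ * k⁻¹ := ⟨_, rfl⟩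
  have ha₁ : a₁ ∈ W' := by rw [ha₁def]; exact conj_mem_of_mem_normalizer hkN hw₀
  have ha₁w : a₁ ≠ w₀ := by rw [ha₁def]; exact hkf w₀ hw₀ hw₀1
  have ha₁1 : a₁ ≠ 1 := by
    intro h; apply hw₀1
    have : w₀ = k⁻¹ * (k * w₀ * k⁻¹) * k := by group
    rw [this, ← ha₁def, h]; group
  obtain ⟨hc1, hc2⟩ := fpf_cycle hW'4 hW'2 hkN hkf hw₀ hw₀1
  rw [← ha₁def] at hc1 hc2
  -- hc1 : k * a₁ * k⁻¹ = w₀ * a₁ ; hc2 : k * (w₀ * a₁) * k⁻¹ = w₀
  have hua₁ : u * a₁ * u⁻¹ = a₁ * w₀ := by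
    apply hmoved a₁ ha₁
    intro h
    rcases hfixed a₁ ha₁ h with h' | h'
    · exact ha₁1 h'
    · exact ha₁w h'
  have hθ : ∀ y, (u * k) * y * (u * k)⁻¹ = u * (k * y * k⁻¹) * u⁻¹ := by intro y; group
  have hθw : (u * k) * w₀ * (u * k)⁻¹ = a₁ * w₀ := by
    rw [hθ, ← ha₁def]; exact hua₁
  have hθa : (u * k) * a₁ * (u * k)⁻¹ = a₁ := by
    rw [hθ, hc1]
    have : u * (w₀ * a₁) * u⁻¹ = (u * w₀ * u⁻¹) * (u * a₁ * u⁻¹) := by group
    rw [this, hw₀fix, hua₁]
    calc w₀ * (a₁ * w₀) = w₀ * (w₀ * a₁) := by rw [hcomm a₁ ha₁ w₀ hw₀]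
      _ = (w₀ * w₀) * a₁ := by group
      _ = a₁ := by rw [hW'2 w₀ hw₀, one_mul]
  have hθaw : (u * k) * (a₁ * w₀) * (u * k)⁻¹ = w₀ := by
    have : (u * k) * (a₁ * w₀) * (u * k)⁻¹
        = ((u * k) * a₁ * (u * k)⁻¹) * ((u * k) * w₀ * (u * k)⁻¹) := by group
    rw [this, hθa, hθw]
    calc a₁ * (a₁ * w₀) = (a₁ * a₁) * w₀ := by group
      _ = w₀ := by rw [hW'2 a₁ ha₁, one_mul]
  have hr : (u * k * u⁻¹) * k = (u * k) * (u * k) := by rw [huinv]; group
  have hrb : ∀ b, ((u * k * u⁻¹) * k) * b * ((u * k * u⁻¹) * k)⁻¹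
      = (u * k) * ((u * k) * b * (u * k)⁻¹) * (u * k)⁻¹ := by
    intro b; rw [hr]; group
  have hrw : ((u * k * u⁻¹) * k) * w₀ * ((u * k * u⁻¹) * k)⁻¹ = w₀ := by
    rw [hrb, hθw, hθaw]
  have hra : ((u * k * u⁻¹) * k) * a₁ * ((u * k * u⁻¹) * k)⁻¹ = a₁ := by
    rw [hrb, hθa, hθa]
  have hwa1 : w₀ * a₁ ≠ 1 := by
    intro h
    apply ha₁w
    have : a₁ = w₀⁻¹ := eq_inv_of_mul_eq_one_right h
    rw [this, inv_eq_self_of_sq (hW'2 w₀ hw₀)]
  have hwaw : w₀ * a₁ ≠ w₀ := by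
    intro h; apply ha₁1
    have : w₀ * a₁ = w₀ * 1 := by rw [h, mul_one]
    exact mul_left_cancel this
  have hwaa : w₀ * a₁ ≠ a₁ := by
    intro h; apply hw₀1
    have : w₀ * a₁ = 1 * a₁ := by rw [h, one_mul]
    exact mul_right_cancel this
  have henum := four_enum hW'4 hw₀ ha₁ (W'.mul_mem hw₀ ha₁) hw₀1 ha₁1 hwa1 (Ne.symm ha₁w)
    (Ne.symm hwaw) (Ne.symm hwaa)
  intro b hb
  rcases henum b hb with h | h | h | h
  · rw [h]; group
  · rw [h]; exact hrw
  · rw [h]; exact hra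
  · rw [h]
    have : ((u * k * u⁻¹) * k) * (w₀ * a₁) * ((u * k * u⁻¹) * k)⁻¹
        = (((u * k * u⁻¹) * k) * w₀ * ((u * k * u⁻¹) * k)⁻¹)
          * (((u * k * u⁻¹) * k) * a₁ * ((u * k * u⁻¹) * k)⁻¹) := by group
    rw [this, hrw, hra]

/-- `A ∪ A c` for an involution `c` commuting with `A`. -/
def adj (A : Subgroup G) (c : G) (hc2 : c * c = 1) (hcA : ∀ a ∈ A, a * c = c * a) :
    Subgroup G where
  carrier := {g | g ∈ A ∨ g * c ∈ A}
  one_mem' := Or.inl A.one_mem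
  mul_mem' := by
    rintro g h (hg | hg) (hh | hh)
    · exact Or.inl (A.mul_mem hg hh)
    · right
      have : g * h * c = g * (h * c) := by group
      rw [this]; exact A.mul_mem hg hh
    · right
      have : g * h * c = (g * c) * h := by
        rw [mul_assoc, hcA h hh]; group
      rw [this]; exact A.mul_mem hg hh
    · left
      have h1 := hcA (h * c) hh
      have h2 : h = c * (h * c) := by
        rw [← h1, mul_assoc, hc2, mul_one]
      have : g * h = (g * c) * (h * c) := by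
        calc g * h = g * (c * (h * c)) := by rw [← h2]
          _ = (g * c) * (h * c) := by group
      rw [this]; exact A.mul_mem hg hh
  inv_mem' := by
    rintro g (hg | hg)
    · exact Or.inl (A.inv_mem hg)
    · right
      have h1 := hcA (g * c)⁻¹ (A.inv_mem hg)
      have e1 : (g * c)⁻¹ * c = g⁻¹ := by
        rw [h1]; group
      have h3 : g⁻¹ * c = (g * c)⁻¹ := by
        calc g⁻¹ * c = ((g * c)⁻¹ * c) * c := by rw [e1]
          _ = (g * c)⁻¹ * (c * c) := by group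
          _ = (g * c)⁻¹ := by rw [hc2, mul_one]
      rw [h3]; exact A.inv_mem hg

theorem mem_adj {A : Subgroup G} {c : G} {hc2 : c * c = 1} {hcA : ∀ a ∈ A, a * c = c * a}
    {g : G} : g ∈ adj A c hc2 hcA ↔ g ∈ A ∨ g * c ∈ A := Iff.rfl


/-- **The abstract lemma AL.**  A four-group `W` normal in `S`, containing a central element `z`
of `S`, all of whose involution centralizers normalize `W` and none of whose involutions is
centralized by an element of `K` acting nontrivially on `W'`, cannot exist in the presence of the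
configuration `ALCfg S T K W'` and an element `x ∈ N_S(T) \ T` with `x² ∈ T`. -/
theorem al_false {S T K W' W : Subgroup G} (C : ALCfg S T K W')
    {x z : G} (hxS : x ∈ S) (hxT : x ∉ T) (hxN : x ∈ Subgroup.normalizer (T : Set G))
    (hx2 : x * x ∈ T)
    (hk : ∃ k ∈ K, ∀ a ∈ W', a ≠ 1 → k * a * k⁻¹ ≠ a)
    (hWS : W ≤ S) (hW4 : Nat.card W = 4) (hW2 : ∀ a ∈ W, a * a = 1)
    (hSW : S ≤ Subgroup.normalizer (W : Set G))
    (hzW : z ∈ W) (hz1 : z ≠ 1) (hzS : ∀ s ∈ S, s * z = z * s)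
    (hP2 : ∀ v ∈ W, v ≠ 1 →
      Subgroup.centralizer ({v} : Set G) ≤ Subgroup.normalizer (W : Set G))
    (hKc : ∀ c ∈ W, c ≠ 1 → ∀ k ∈ K, k * c = c * k →
      k ∈ Subgroup.centralizer (W' : Set G)) :
    False := by
  have hKQ : ∀ k ∈ K, ∀ n ∈ qOf T W', k * n * k⁻¹ ∈ qOf T W' :=
    fun k hk n hn => C.K_conj_Q hk hn
  have hTQ : ∀ t ∈ T, ∀ n ∈ qOf T W', t * n * t⁻¹ ∈ qOf T W' :=
    fun t ht n hn => C.T_conj_Q ht hn
  -- Step 1: z ∈ Q, W ≤ T
  have hzT : z ∈ T := by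
    refine C.hKP (qOf T W') C.Q_ne_bot C.Q_le_T hKQ hTQ z (hWS hzW) ?_ ?_
    · intro n hn
      have h := hzS n (C.hTS (C.Q_le_T hn))
      have : z * n * z⁻¹ = n := by rw [← h]; group
      rw [this]; exact hn
    · intro n hn
      have h := hzS n (C.hTS (C.Q_le_T hn))
      have : z⁻¹ * n * z = n := by rw [mul_assoc, h]; group
      rw [this]; exact hn
  have hzQ : z ∈ qOf T W' := mem_qOf.mpr ⟨hzT, fun a ha => hzS a (C.hTS (C.hW'T ha))⟩
  have hWT : W ≤ T := by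
    intro w hw
    by_cases hw1 : w = 1
    · rw [hw1]; exact T.one_mem
    by_cases hwz : w = z
    · rw [hwz]; exact hzT
    have hw2 := hW2 w hw
    have hzw1 : z * w ≠ 1 := by
      intro h
      apply hwz
      have : w = z⁻¹ := eq_inv_of_mul_eq_one_right h
      rw [this, inv_eq_self_of_sq (hW2 z hzW)]
    have hzwz : z * w ≠ z := by
      intro h; apply hw1
      have : z * w = z * 1 := by rw [h, mul_one]
      exact mul_left_cancel this
    have hzww : z * w ≠ w := by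
      intro h; apply hz1
      have : z * w = 1 * w := by rw [h, one_mul]
      exact mul_right_cancel this
    have henum := four_enum hW4 hzW hw (W.mul_mem hzW hw) hz1 hw1 hzw1 (Ne.symm hwz)
      (Ne.symm hzwz) (Ne.symm hzww)
    have hconj : ∀ q ∈ qOf T W', w * q * w⁻¹ ∈ qOf T W' := by
      intro q hq
      have hqS : q ∈ S := C.hTS (C.Q_le_T hq)
      have h1 : q⁻¹ * w * q ∈ W := conj_inv_mem_of_mem_normalizer (hSW hqS) hw
      rcases henum _ h1 with h | h | h | h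
      · exfalso; apply hw1
        have : w = q * (q⁻¹ * w * q) * q⁻¹ := by group
        rw [this, h]; group
      · exfalso; apply hwz
        have : w = q * (q⁻¹ * w * q) * q⁻¹ := by group
        rw [this, h, hzS q hqS]; group
      · have : w * q * w⁻¹ = q := by
          calc w * q * w⁻¹ = q * (q⁻¹ * w * q) * w⁻¹ := by group
            _ = q := by rw [h]; group
        rw [this]; exact hq
      · have : w * q * w⁻¹ = q * z := by
          calc w * q * w⁻¹ = q * (q⁻¹ * w * q) * w⁻¹ := by group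
            _ = q * z := by rw [h]; group
        rw [this]; exact (qOf T W').mul_mem hq hzQ
    have hwinv : w⁻¹ = w := inv_eq_self_of_sq hw2
    refine C.hKP (qOf T W') C.Q_ne_bot C.Q_le_T hKQ hTQ w (hWS hw) hconj ?_
    intro n hn
    have := hconj n hn
    rw [hwinv] at this ⊢
    exact this
  have hW1 : W ≠ ⊥ := by
    intro h
    rw [h, Subgroup.mem_bot] at hzW
    exact hz1 hzW
  -- Step 2: a conjugate of W in T, not in Q
  obtain ⟨g, hgT, w, hw, hgwQ⟩ := C.exists_conj hxS hxT hxN hx2 hSW hW1 hWT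
  have hmemV : ∀ v, v ∈ W.map (MulAut.conj g).toMonoidHom ↔ ∃ w ∈ W, g * w * g⁻¹ = v := by
    intro v
    simp only [Subgroup.mem_map, MulEquiv.coe_toMonoidHom, MulAut.conj_apply]
  have hV4 : Nat.card (W.map (MulAut.conj g).toMonoidHom) = 4 := by
    rw [← hW4]; exact Subgroup.card_map_of_injective (MulAut.conj g).injective
  have hV2 : ∀ v ∈ W.map (MulAut.conj g).toMonoidHom, v * v = 1 := by
    intro v hv
    obtain ⟨w', hw', rfl⟩ := (hmemV v).mp hv
    have : (g * w' * g⁻¹) * (g * w' * g⁻¹) = g * (w' * w') * g⁻¹ := by group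
    rw [this, hW2 w' hw']; group
  have hVT : W.map (MulAut.conj g).toMonoidHom ≤ T := by
    intro v hv
    obtain ⟨w', hw', rfl⟩ := (hmemV v).mp hv
    exact hgT w' hw'
  have hP2V : ∀ v ∈ W.map (MulAut.conj g).toMonoidHom, v ≠ 1 →
      Subgroup.centralizer ({v} : Set G)
        ≤ Subgroup.normalizer ((W.map (MulAut.conj g).toMonoidHom : Subgroup G) : Set G) := by
    intro v hv hv1
    obtain ⟨w', hw', rfl⟩ := (hmemV v).mp hv
    have hw'1 : w' ≠ 1 := by rintro rfl; apply hv1; group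
    apply al_le_normalizer
    intro h hh y hy
    obtain ⟨w'', hw'', rfl⟩ := (hmemV y).mp hy
    rw [Subgroup.mem_centralizer_iff] at hh
    have hh' := hh _ (Set.mem_singleton _)
    have h1 : g⁻¹ * h * g ∈ Subgroup.centralizer ({w'} : Set G) := by
      rw [Subgroup.mem_centralizer_iff]
      intro m hm
      rw [Set.mem_singleton_iff] at hm
      rw [hm]
      calc w' * (g⁻¹ * h * g) = g⁻¹ * ((g * w' * g⁻¹) * h) * g := by group
        _ = g⁻¹ * (h * (g * w' * g⁻¹)) * g := by rw [hh']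
        _ = (g⁻¹ * h * g) * w' := by group
    have h2 := hP2 w' hw' hw'1 h1
    rw [hmemV]
    exact ⟨(g⁻¹ * h * g) * w'' * (g⁻¹ * h * g)⁻¹, conj_mem_of_mem_normalizer h2 hw'',
      by group⟩
  have huV : g * w * g⁻¹ ∈ W.map (MulAut.conj g).toMonoidHom := (hmemV _).mpr ⟨w, hw, rfl⟩
  obtain ⟨w₀, hw₀, hw₀1, hw₀fix, hfixed, hmoved, huq⟩ := C.key hV4 hV2 hVT hP2V huV hgwQ
  obtain ⟨u, hudef⟩ : ∃ u, u = g * w * g⁻¹ := ⟨_, rfl⟩
  rw [← hudef] at hw₀fix hfixed hmoved huq hgwQ huV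
  have huT : u ∈ T := hVT huV
  have hu2 : u * u = 1 := hV2 u huV
  -- Steps 5, 6
  have hQ2 := C.elem hxS hxT hxN hx2 huT hgwQ hu2 hw₀ huq
  have hQcomm := al_comm hQ2
  obtain ⟨a, ha, haQ⟩ := C.b1 hxS hxT hxN hx2 huT hgwQ hu2 hw₀ huq
  obtain ⟨a'', ha''def⟩ : ∃ a'', a'' = x * a * x⁻¹ := ⟨_, rfl⟩
  have ha''Q : a'' ∉ qOf T W' := by rw [ha''def]; exact haQ
  have ha''T : a'' ∈ T := by
    rw [ha''def]; exact conj_mem_of_mem_normalizer hxN (C.hW'T ha)
  have ha''2 : a'' * a'' = 1 := by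
    rw [ha''def]
    have : (x * a * x⁻¹) * (x * a * x⁻¹) = x * (a * a) * x⁻¹ := by group
    rw [this, C.hW'2 a ha]; group
  have hxa'' : x⁻¹ * a'' * x = a := by rw [ha''def]; group
  by_cases hWQ : W ≤ qOf T W'
  · -- Step 7b
    obtain ⟨k, hkK, hkf⟩ := hk
    have hkN := C.hKW' hkK
    have hW'comm := al_comm C.hW'2
    have hcT : ∀ c ∈ W, ∀ t ∈ T, t * c = c * t := by
      intro c hc t ht
      have hcQ := hWQ hc
      have hxc : x⁻¹ * c * x ∈ qOf T W' :=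
        hWQ (conj_inv_mem_of_mem_normalizer (hSW hxS) hc)
      have hca : a'' * c = c * a'' := by
        have h1 := hQcomm a (C.W'_le_Q ha) _ hxc
        calc a'' * c = x * (a * (x⁻¹ * c * x)) * x⁻¹ := by rw [ha''def]; group
          _ = x * ((x⁻¹ * c * x) * a) * x⁻¹ := by rw [h1]
          _ = c * a'' := by rw [ha''def]; group
      by_cases htQ : t ∈ qOf T W'
      · exact hQcomm t htQ c hcQ
      · have h1 := C.mul_mem_Q ht ha''T htQ ha''Q
        have h2 := hQcomm _ h1 c hcQ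
        calc t * c = t * (a'' * a'') * c := by rw [ha''2, mul_one]
          _ = (t * a'') * (a'' * c) := by group
          _ = (t * a'') * (c * a'') := by rw [hca]
          _ = ((t * a'') * c) * a'' := by group
          _ = (c * (t * a'')) * a'' := by rw [h2]
          _ = c * t * (a'' * a'') := by group
          _ = c * t := by rw [ha''2, mul_one]
    have hKc' : ∀ c ∈ W, ∀ k' ∈ K, (k' * c * k'⁻¹) * c ∈ W' := by
      intro c hc k' hk'
      have hcQ := hWQ hc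
      have hc2 := hW2 c hc
      have hcW' : ∀ b ∈ W', b * c = c * b := (mem_qOf.mp hcQ).2
      have hY := C.lemN huT hgwQ hu2 hw₀ huq (Y := adj W' c hc2 hcW')
        (fun b hb => mem_adj.mpr (Or.inl hb)) ?_ ?_
      · have hcY : c ∈ adj W' c hc2 hcW' :=
          mem_adj.mpr (Or.inr (by rw [hc2]; exact W'.one_mem))
        rcases mem_adj.mp (hY k' hk' c hcY) with h | h
        · have hcW : c ∈ W' := by
            have h' := conj_inv_mem_of_mem_normalizer (C.hKW' hk') h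
            have e : k'⁻¹ * (k' * c * k'⁻¹) * k' = c := by group
            rwa [e] at h'
          exact W'.mul_mem h hcW
        · exact h
      · intro y hy
        rcases mem_adj.mp hy with hy | hy
        · exact C.W'_le_Q hy
        · have : y = (y * c) * c := by rw [mul_assoc, hc2, mul_one]
          rw [this]; exact (qOf T W').mul_mem (C.W'_le_Q hy) hcQ
      · intro t ht y hy
        rcases mem_adj.mp hy with hy | hy
        · exact mem_adj.mpr (Or.inl (conj_mem_of_mem_normalizer (C.hTW' ht) hy))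
        · refine mem_adj.mpr (Or.inr ?_)
          have htc := hcT c hc t⁻¹ (T.inv_mem ht)
          have : t * y * t⁻¹ * c = t * (y * c) * t⁻¹ := by
            rw [mul_assoc (t * y), htc]; group
          rw [this]; exact conj_mem_of_mem_normalizer (C.hTW' ht) hy
    have huk : u * k * u⁻¹ ∈ K := conj_mem_of_mem_normalizer (C.hTK huT) hkK
    have hrK : (u * k * u⁻¹) * k ∈ K := K.mul_mem huk hkK
    have hrc := inv_conj_cent C.hW'4 C.hW'2 hkN hkf hw₀ hw₀1 hu2 hw₀fix hfixed hmoved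
    have hrcen : (u * k * u⁻¹) * k ∈ Subgroup.centralizer (W' : Set G) := by
      rw [Subgroup.mem_centralizer_iff]
      intro b hb
      have := hrc b hb
      calc b * ((u * k * u⁻¹) * k)
          = (((u * k * u⁻¹) * k) * b * ((u * k * u⁻¹) * k)⁻¹) * ((u * k * u⁻¹) * k) := by
            rw [this]
        _ = ((u * k * u⁻¹) * k) * b := by group
    have hrQ : (u * k * u⁻¹) * k ∈ qOf T W' :=
      mem_qOf.mpr ⟨C.hR (Subgroup.mem_inf.mpr ⟨hrK, hrcen⟩),
        fun a' ha' => Subgroup.mem_centralizer_iff.mp hrcen a' ha'⟩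
    have hfix : ∀ c ∈ W, ∃ f ∈ W', (f = 1 ∨ f = w₀) ∧ k * (c * f) * k⁻¹ = c * f := by
      intro c hc
      have hcQ := hWQ hc
      have hc2 := hW2 c hc
      obtain ⟨e, hedef⟩ : ∃ e, e = (k * c * k⁻¹) * c := ⟨_, rfl⟩
      have he : e ∈ W' := by rw [hedef]; exact hKc' c hc k hkK
      have hkc : k * c * k⁻¹ = e * c := by
        rw [hedef]
        calc k * c * k⁻¹ = (k * c * k⁻¹) * (c * c) := by rw [hc2, mul_one]
          _ = (k * c * k⁻¹) * c * c := by group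
      obtain ⟨f, hfdef⟩ : ∃ f, f = k * e * k⁻¹ := ⟨_, rfl⟩
      have hf : f ∈ W' := by rw [hfdef]; exact conj_mem_of_mem_normalizer hkN he
      have h3 := three_prod C.hW'4 C.hW'2 hkN hkf he
      rw [← hfdef] at h3
      have h4 : e * (k * f * k⁻¹) = f := by
        have h5 : f * (e * (k * f * k⁻¹)) = 1 := by
          rw [← mul_assoc, hW'comm f hf e he]; exact h3
        have : e * (k * f * k⁻¹) = f⁻¹ := eq_inv_of_mul_eq_one_right h5
        rw [this, inv_eq_self_of_sq (C.hW'2 f hf)]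
      have hec : e * c = c * e := (mem_qOf.mp hcQ).2 e he
      have hfixc' : k * (c * f) * k⁻¹ = c * f := by
        calc k * (c * f) * k⁻¹ = (k * c * k⁻¹) * (k * f * k⁻¹) := by group
          _ = (e * c) * (k * f * k⁻¹) := by rw [hkc]
          _ = (c * e) * (k * f * k⁻¹) := by rw [hec]
          _ = c * (e * (k * f * k⁻¹)) := by group
          _ = c * f := by rw [h4]
      refine ⟨f, hf, ?_, hfixc'⟩
      apply hfixed f hf
      have huc : u * c = c * u := hcT c hc u huT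
      have hc'' : u * (c * f) * u⁻¹ = c * (u * f * u⁻¹) := by
        calc u * (c * f) * u⁻¹ = (u * c) * f * u⁻¹ := by group
          _ = (c * u) * f * u⁻¹ := by rw [huc]
          _ = c * (u * f * u⁻¹) := by group
      have huf : u * f * u⁻¹ ∈ W' := conj_mem_of_mem_normalizer (C.hTW' huT) hf
      have h6 : (u * k * u⁻¹) * (u * (c * f) * u⁻¹) * (u * k * u⁻¹)⁻¹
          = u * (c * f) * u⁻¹ := by
        calc (u * k * u⁻¹) * (u * (c * f) * u⁻¹) * (u * k * u⁻¹)⁻¹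
            = u * (k * (c * f) * k⁻¹) * u⁻¹ := by group
          _ = u * (c * f) * u⁻¹ := by rw [hfixc']
      have hc''Q : u * (c * f) * u⁻¹ ∈ qOf T W' :=
        C.T_conj_Q huT ((qOf T W').mul_mem hcQ (C.W'_le_Q hf))
      have hrcomm := hQcomm _ hrQ _ hc''Q
      have h7 : k * (u * (c * f) * u⁻¹) * k⁻¹ = u * (c * f) * u⁻¹ := al_conj_fix h6 hrcomm
      have e1 : u * (c * f) * u⁻¹ = (c * f) * (f * (u * f * u⁻¹)) := by
        rw [hc'']
        calc c * (u * f * u⁻¹) = c * (f * f) * (u * f * u⁻¹) := by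
              rw [C.hW'2 f hf, mul_one]
          _ = (c * f) * (f * (u * f * u⁻¹)) := by group
      have e2 : k * ((c * f) * (f * (u * f * u⁻¹))) * k⁻¹
          = (c * f) * (f * (u * f * u⁻¹)) := by
        rw [← e1]; exact h7
      have e3 : k * ((c * f) * (f * (u * f * u⁻¹))) * k⁻¹
          = (k * (c * f) * k⁻¹) * (k * (f * (u * f * u⁻¹)) * k⁻¹) := by group
      rw [e3, hfixc'] at e2
      have h8 : k * (f * (u * f * u⁻¹)) * k⁻¹ = f * (u * f * u⁻¹) := mul_left_cancel e2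
      have hd : f * (u * f * u⁻¹) ∈ W' := W'.mul_mem hf huf
      have hd1 : f * (u * f * u⁻¹) = 1 := by
        by_contra hne
        exact hkf _ hd hne h8
      have : u * f * u⁻¹ = f⁻¹ := eq_inv_of_mul_eq_one_right hd1
      rw [this, inv_eq_self_of_sq (C.hW'2 f hf)]
    have hnofix : ∀ c ∈ W, c ≠ 1 → k * c * k⁻¹ ≠ c := by
      intro c hc hc1 h
      have hkc : k * c = c * k := by
        calc k * c = (k * c * k⁻¹) * k := by group
          _ = c * k := by rw [h]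
      have hcen := hKc c hc hc1 k hkK hkc
      obtain ⟨b, hb, hb1⟩ := C.four.exists_ne_one
      apply hkf b hb hb1
      have := Subgroup.mem_centralizer_iff.mp hcen b hb
      calc k * b * k⁻¹ = (b * k) * k⁻¹ := by rw [this]
        _ = b := by group
    obtain ⟨f₁, hf₁, hf₁c, hfx₁⟩ := hfix z hzW
    obtain ⟨w', hw', hw'1, hw'z⟩ := exists_third hW4 (hW2 z hzW) hz1
    obtain ⟨f₂, hf₂, hf₂c, hfx₂⟩ := hfix w' hw'
    rcases hf₁c with h | h
    · rw [h, mul_one] at hfx₁; exact hnofix z hzW hz1 hfx₁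
    rcases hf₂c with h' | h'
    · rw [h', mul_one] at hfx₂; exact hnofix w' hw' hw'1 hfx₂
    · rw [h] at hfx₁; rw [h'] at hfx₂
      have hzw : z * w' ∈ W := W.mul_mem hzW hw'
      have hzw1 : z * w' ≠ 1 := by
        intro hh
        apply hw'z
        have : w' = z⁻¹ := eq_inv_of_mul_eq_one_right hh
        rw [this, inv_eq_self_of_sq (hW2 z hzW)]
      apply hnofix (z * w') hzw hzw1
      have hw₀w' : w₀ * w' = w' * w₀ := (mem_qOf.mp (hWQ hw')).2 w₀ hw₀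
      have e1 : z * w' = (z * w₀) * (w' * w₀) := by
        calc z * w' = z * (w' * (w₀ * w₀)) := by rw [C.hW'2 w₀ hw₀, mul_one]
          _ = z * ((w' * w₀) * w₀) := by group
          _ = z * ((w₀ * w') * w₀) := by rw [hw₀w']
          _ = (z * w₀) * (w' * w₀) := by group
      calc k * (z * w') * k⁻¹ = k * ((z * w₀) * (w' * w₀)) * k⁻¹ := by rw [← e1]
        _ = (k * (z * w₀) * k⁻¹) * (k * (w' * w₀) * k⁻¹) := by group
        _ = (z * w₀) * (w' * w₀) := by rw [hfx₁, hfx₂]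
        _ = z * w' := e1.symm
  · -- Step 7a
    obtain ⟨w₁, hw₁, hw₁Q⟩ := SetLike.not_le_iff_exists.mp hWQ
    have hw₁T := hWT hw₁
    have hw₁1 : w₁ ≠ 1 := by rintro rfl; exact hw₁Q (Subgroup.one_mem _)
    have hw₁z : w₁ ≠ z := by rintro rfl; exact hw₁Q hzQ
    have hw₁2 := hW2 w₁ hw₁
    have hzw1 : z * w₁ ≠ 1 := by
      intro h
      apply hw₁z
      have : w₁ = z⁻¹ := eq_inv_of_mul_eq_one_right h
      rw [this, inv_eq_self_of_sq (hW2 z hzW)]
    have hzwz : z * w₁ ≠ z := by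
      intro h; apply hw₁1
      have : z * w₁ = z * 1 := by rw [h, mul_one]
      exact mul_left_cancel this
    have hzww : z * w₁ ≠ w₁ := by
      intro h; apply hz1
      have : z * w₁ = 1 * w₁ := by rw [h, one_mul]
      exact mul_right_cancel this
    have henum := four_enum hW4 hzW hw₁ (W.mul_mem hzW hw₁) hz1 hw₁1 hzw1 (Ne.symm hw₁z)
      (Ne.symm hzwz) (Ne.symm hzww)
    have hxw : x⁻¹ * w₁ * x ∉ qOf T W' := by
      intro hin
      have hmem : x⁻¹ * w₁ * x ∈ W := conj_inv_mem_of_mem_normalizer (hSW hxS) hw₁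
      rcases henum _ hmem with h | h | h | h
      · apply hw₁1
        have : w₁ = x * (x⁻¹ * w₁ * x) * x⁻¹ := by group
        rw [this, h]; group
      · apply hw₁z
        have : w₁ = x * (x⁻¹ * w₁ * x) * x⁻¹ := by group
        rw [this, h, hzS x hxS]; group
      · rw [h] at hin; exact hw₁Q hin
      · rw [h] at hin
        apply hw₁Q
        have : w₁ = z⁻¹ * (z * w₁) := by group
        rw [this]; exact (qOf T W').mul_mem ((qOf T W').inv_mem hzQ) hin
    obtain ⟨q, hqdef⟩ : ∃ q, q = w₁ * a'' := ⟨_, rfl⟩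
    have hq : q ∈ qOf T W' := by
      rw [hqdef]; exact C.mul_mem_Q hw₁T ha''T hw₁Q ha''Q
    have hw_eq : w₁ = q * a'' := by rw [hqdef, mul_assoc, ha''2, mul_one]
    have hqa : q * a'' = a'' * q := by
      have h1 : (q * a'') * (q * a'') = 1 := by rw [← hw_eq]; exact hw₁2
      have e : q * a'' = (q * a'')⁻¹ := (inv_eq_of_mul_eq_one_left h1).symm
      rw [e, mul_inv_rev, inv_eq_self_of_sq ha''2, inv_eq_self_of_sq (hQ2 q hq)]
    have hqT : x⁻¹ * q * x ∈ T := conj_inv_mem_of_mem_normalizer hxN (C.Q_le_T hq)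
    have hqx : x⁻¹ * q * x ∉ qOf T W' := by
      intro hin
      apply hxw
      have : x⁻¹ * w₁ * x = (x⁻¹ * q * x) * (x⁻¹ * a'' * x) := by rw [hw_eq]; group
      rw [this, hxa'']
      exact (qOf T W').mul_mem hin (C.W'_le_Q ha)
    apply ha''Q
    rw [mem_qOf]
    refine ⟨ha''T, fun b hb => ?_⟩
    have hbT : x⁻¹ * b * x ∈ T := conj_inv_mem_of_mem_normalizer hxN (C.hW'T hb)
    by_cases hbx : x⁻¹ * b * x ∈ qOf T W'
    · have h1 := hQcomm _ hbx a (C.W'_le_Q ha)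
      calc b * a'' = x * ((x⁻¹ * b * x) * a) * x⁻¹ := by rw [ha''def]; group
        _ = x * (a * (x⁻¹ * b * x)) * x⁻¹ := by rw [h1]
        _ = a'' * b := by rw [ha''def]; group
    · have h1 := C.mul_mem_Q hbT hqT hbx hqx
      have e : (x⁻¹ * b * x) * (x⁻¹ * q * x) = x⁻¹ * (b * q) * x := by group
      rw [e] at h1
      have h2 := hQcomm _ h1 a (C.W'_le_Q ha)
      have h3 : (b * q) * a'' = a'' * (b * q) := by
        calc (b * q) * a'' = x * ((x⁻¹ * (b * q) * x) * a) * x⁻¹ := by rw [ha''def]; group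
          _ = x * (a * (x⁻¹ * (b * q) * x)) * x⁻¹ := by rw [h2]
          _ = a'' * (b * q) := by rw [ha''def]; group
      have h4 : (b * a'') * q = (a'' * b) * q := by
        calc (b * a'') * q = b * (a'' * q) := by group
          _ = b * (q * a'') := by rw [hqa]
          _ = (b * q) * a'' := by group
          _ = a'' * (b * q) := h3
          _ = (a'' * b) * q := by group
      exact mul_right_cancel h4

end Cfsg.Agent.Lib.Helper31.KS12
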